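import Cfsg.Agent.Mult.Slices
import Cfsg.Agent.Co3C.Cert

set_option autoImplicit false
set_option Elab.async false
set_option maxRecDepth 100000
set_option linter.all false

namespace Cfsg.Agent.Co3C
open Cfsg.Agent.CGT

open Cfsg.Agent.Mult

noncomputable def u2_D : PC := ⟨2, 10, 2, 22,
  [[0, 0x104, 0x10110, 0x440, 0x100, 0x40400, 0x51000, 0x14000, 0x10000, 0x40000], [0, 0, 0x1010, 0x45140, 0x100, 0x14400, 0x41000, 0x4000, 0x50000, 0x40000], [0, 0, 0x41000, 0x15540, 0x10100, 0x4400, 0x1000, 0x54000, 0x50000, 0x40000], [0, 0, 0, 0, 0x4100, 0x40400, 0x5000, 0x44000, 0x50000, 0x40000], [0, 0, 0, 0, 0, 0x50400, 0x41000, 0x44000, 0x10000, 0x40000], [0, 0, 0, 0, 0, 0x40000, 0x11000, 0x44000, 0x10000, 0x40000], [0, 0, 0, 0, 0, 0, 0x40000, 0x44000, 0x10000, 0x40000], [0, 0, 0, 0, 0, 0, 0, 0x40000, 0x10000, 0x40000], [0, 0, 0, 0, 0, 0,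 0, 0, 0, 0x40000], [0, 0, 0, 0, 0, 0, 0, 0, 0, 0]],
  [0x3f3f, 0x33cf, 0xf3f, 0x3ff, 0x3f, 0xf, 3, 0, 0, 0],
  [(10, 1, 0x4015), (10, 4, 0x40004), (10, 0x10, 0x45410), (10, 0x400, 0x14114), (10, 0x4000, 0x11000), (10, 0x10000, 0x50000), (10, 0x40000, 0x40000), (11, 0x11, 0x115), (11, 0x40, 0x11500), (11, 0x100, 4), (11, 0x400, 0x44440), (11, 0x4000, 0x14000), (11, 0x10000, 0x51100), (11, 0x40000, 0x40000), (12, 0x40, 0x5140), (12, 0x100, 0x101), (12, 0x400, 0x4000), (12, 0x10000, 0x10000), (12, 0x40000, 0x40000)], 23, 0x80007000003000000020100040006090005⟩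
noncomputable def u2_ds : List (List ℕ) := [[3, 4, 0, 4, 0, 6, 0, 12, 0, 6, 4, 6, 0, 12, 8, 0, 6, 4, 3, 4], [12, 10, 12, 3, 0, 6, 0, 6, 8, 6, 8, 6, 12, 8, 4, 0, 12, 10], [0, 12, 8, 12, 4, 6, 0, 2, 12, 2, 10, 3, 12, 3, 12, 3, 4, 12, 2, 12], [0, 4, 8, 12, 10, 4, 2, 10, 4, 3, 0, 12, 0, 6, 4, 6, 0, 12, 4, 12], [0, 3, 0, 12, 6, 8, 6, 12, 6, 8, 6, 0, 2, 0], [8, 2, 12, 2, 10, 2, 10, 6, 0, 8, 10, 6, 10, 12, 3, 6, 3, 4, 2, 6, 8, 12, 8], [2, 2, 6, 2, 6, 4, 3, 6, 0, 4, 6, 8, 3, 3, 6, 4, 10, 0, 12, 2, 0, 10], [8, 12, 4, 8, 0, 12, 8, 4, 8, 2, 0, 3, 6, 10, 0, 10, 3, 10, 0, 6, 3], [3, 12, 3, 12, 2, 12, 2], [6, 4, 8, 2, 12, 0, 12, 3, 8, 4, 6], [4, 3, 0, 8, 2, 8, 10, 3, 0, 4, 0, 12, 3, 10, 8, 12, 8, 3, 8, 0], [10, 0, 4, 3, 4, 0, 6, 0, 2, 4, 12, 2, 10, 3, 12, 4, 12, 6, 12, 10], [10, 2, 6, 0, 2, 0, 6, 3, 6, 8, 2, 4, 2, 6, 12, 8, 3, 8, 4]]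
noncomputable def u2_c : Mult.Cert := ⟨69, 20, [[], [], [], [], [1], [3], [12], [34], [7], [18]],
  [],
  [[0x1fec065e008104, 0, 0x40640da011903, 0, 0x1fec065e008100, 0x1014205a000003, 0x1b194c48416000, 0, 0x29b0400000000, 0x20a0000000000], [0, 0x1fcc065e008500, 0, 0x16038ce445e230, 0x1f8c065e008100, 0x2377c88ee5e100, 0x1d84025e008000, 0xf86025e000000, 0, 0x2000000000000], [0, 0, 0x625d4eccb06c03, 0x26a81499ea0178, 0x3df485e51e100, 0x47cbd84d1be103, 0x44000000000000, 0x2e0a825ae00000, 0x5980648000000, 0x4000000000000], [0, 0, 0, 0x119413a4000283, 0, 0x3014015a000003, 0x44e5688080100, 0x41c965a000000, 0x1a8e8a7a800000, 0x2060000000000], [0, 0, 0, 0, 0x1fcc065e008100, 0xb06027b000000, 0x4000208000000, 0xc1c86da000000, 0x28a0400000000, 0x1000000000000], [0, 0, 0, 0, 0, 0x1216005a000003, 0x80c0000a00000, 0x81c867a000000, 0x129a0c00000000,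 0x20000000000000], [0, 0, 0, 0, 0, 0, 0x1f86425e008000, 0xe1a864a000000, 0x6820200000000, 0x10000000000000], [0, 0, 0, 0, 0, 0, 0, 0x61e865a000000, 0x9008000000000, 0x8000000000000], [0, 0, 0, 0, 0, 0, 0, 0, 0x29a0400000000, 0x800000000000], [0, 0, 0, 0, 0, 0, 0, 0, 0, 0x2020000000000]]⟩

end Cfsg.Agent.Co3C
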