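import Cfsg.Agent.Co3C.Cert
import Cfsg.Agent.Leech.Aut

set_option autoImplicit false
set_option Elab.async false
set_option maxRecDepth 100000
set_option linter.all false

namespace Cfsg.Agent.Co3C
open Cfsg.Agent.CGT

noncomputable def g_Ws : List (List ℕ) := [[10, 6, 10, 4, 10, 6, 4, 8, 6, 2, 2, 8, 12, 0, 6, 10, 4, 10, 6, 10], [12, 2, 8, 12, 0, 10, 2, 8, 4, 6, 2, 6, 2, 0, 4, 3], [2, 12, 4, 12, 4, 10, 8, 4, 6, 8, 4, 0, 3, 4, 3, 0, 2], [10, 4, 10, 3, 6, 10, 8, 0, 2, 8, 0, 2, 6, 4, 2, 4, 3, 0], [10, 12, 10, 12, 10, 3, 0, 10, 8, 6, 2, 8, 3, 6, 2, 2], [4, 6, 0, 8, 6, 2, 4, 3, 6, 4, 0, 3, 4], [8, 6, 8, 2, 0, 8, 6, 4, 6, 4, 0, 2, 4, 0], [6, 0, 4, 6, 2, 4, 0, 4, 0, 2], [6, 0, 2, 2, 6, 0, 2, 6, 0, 2], [4, 2, 0, 4, 0, 2, 0], [4, 0, 2, 4, 2, 0, 2], [2, 2, 0], [0, 3], [0], [0], [2], [4], [6], [8], [10], [12]]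
theorem g_s0 : slpB 9 m_ts (chainBase [] c_ls) g_Ws [[1, 4, 1, 4, 0, 3, 1, 4, 2], [2, 1, 3, 4, 0, 0, 5, 5, 3], [6, 9, 7, 8, 9, 7, 7, 9], [8, 7, 8, 8, 7], [13, 13, 10, 11, 11, 13, 13, 13, 12], [10, 10, 13, 10, 10, 11, 12, 11, 12, 11, 11], [15, 17, 15, 15, 16, 14, 16, 16, 16, 17], [16, 16, 16, 15, 17, 15, 15, 16], [18, 20, 19, 20, 18, 20, 19, 21, 19], [21, 19, 20, 20, 19, 18], [24, 24, 23, 22, 24, 24, 22], [26], [25, 26], [19, 21, 19, 25, 26], [16, 16, 14, 20, 19, 21, 18, 24, 26], [11, 11, 13, 15, 16, 14, 18, 20, 20, 18, 24, 24, 26], [8, 6, 8, 12, 12, 10, 10, 14, 16, 14, 19, 20, 25, 22, 26], [1, 5, 1, 3, 7, 9, 9, 6, 6, 6, 10, 12, 12, 12, 16, 15, 18, 20, 18, 25]] 3 21 = true := by decide +kernel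
theorem g_top {G : Type*} [Group G] {φ : G →* Equiv.Perm ℕ} {γ : ℕ → G}
    (C : Cert φ γ 9 m_ns m_ts [0, 2, 4, 6, 8, 10, 12] c_ls) : gw γ (g_Ws.take 3) = ⊤ := by
  have h0 : SlpTo γ (gw γ (g_Ws.take 3)) g_Ws 3 := fun i hi =>
    ev_mem_gw γ (by interval_cases i <;> decide +kernel)
  rw [eq_top_iff, ← C.gen]
  exact SlpTo.gp_le (SlpTo.step C.M C.base (by decide +kernel) h0 g_s0) (by decide +kernel)

end Cfsg.Agent.Co3C
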