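import Cfsg.Agent.Co3C.Cert
import Cfsg.Agent.Leech.Aut

set_option autoImplicit false
set_option Elab.async false
set_option maxRecDepth 100000
set_option linter.all false

namespace Cfsg.Agent.Co3C
open Cfsg.Agent.CGT

noncomputable def cu_l0 : Level := ⟨7, [[0], [2], [4], [6], [8], [10], [12]], [6, 0, 1, 2, 4, 3, 6, 1, 0, 5, 3, 6, 4], 0xfffffffffffffffffffffffffffffffffffffffffffffffffffffffffffffffffffff, 276⟩
noncomputable def cu_l1 : Level := ⟨0, [[0], [2], [4], [6], [8], [10]], [5, 0, 1, 2, 3, 1, 5, 0, 4, 1, 5, 2, 3, 5], 0xfffffffffffffffffffffffffffffffffffffffffffffffffffffffffffffffffff7f, 275⟩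
noncomputable def cu_l2 : Level := ⟨163, [[0], [2], [4], [6], [8]], [0, 1, 2, 4, 3, 0, 1, 4, 3, 2, 1, 4], 0xb9f47b7eedf033a5fd4d717e46d988ba0b4a0182f51f7e7ff4bbfe106bd276adedf6e, 162⟩
noncomputable def cu_l3 : Level := ⟨28, [[6, 0, 8, 4, 0, 6, 0], [6, 3, 0, 8, 2, 2, 6, 3, 4, 2, 4]], [], 0x40300001002081202900401a02271411090fe350a2001000340004b1020011212010, 56⟩
noncomputable def cu_l4 : Level := ⟨88, [[3, 6, 3, 8, 4, 6, 0, 3, 4, 3, 0], [0, 6, 3, 6, 2, 8, 6, 4, 2, 2, 0], [6, 4, 6, 0, 4, 6, 8, 6, 3, 6, 4, 0]], [], 0x401004b0220580001000004000820042000240115c5004a014000010002048000, 36⟩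
noncomputable def cu_l5 : Level := ⟨182, [[6, 3, 8, 6, 2, 6, 0, 4], [2, 0, 8, 4, 0, 4, 3, 8, 2, 6]], [], 0x20000000000020000006040000000000000000080000101000000080200000000, 10⟩
noncomputable def cu_l6 : Level := ⟨179, [[0, 6, 2, 8, 3, 8, 3, 4, 6, 2, 2, 4, 2]], [], 0x800000000000000000000000020000000000000000000, 2⟩
noncomputable def cu_ls : List Level := [cu_l0, cu_l1, cu_l2, cu_l3, cu_l4, cu_l5, cu_l6]
noncomputable def cu_S : Srch := ⟨9, m_ts, (chainBase [] c_ls), [6, 3, 10, 3, 12, 6, 12, 3, 6, 10, 8, 2, 8, 4, 3, 6, 2, 2, 4, 3], [6, 3, 10, 3, 12, 6, 12, 3, 6, 10, 8, 2, 8, 4, 3, 6, 2, 2, 4, 3], [[2, 2, 4, 12, 6, 10, 0, 10, 0, 10, 4, 6, 4, 0, 4, 3, 4, 2, 0, 2, 0]]⟩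
noncomputable def cu_lk : List ℕ := [8, 1, 164, 29, 89, 183]
noncomputable def cu_tl : List Level := [cu_l1, cu_l2, cu_l3, cu_l4, cu_l5, cu_l6]
noncomputable def cu_R0 : ℕ := 0x8080000040002009044000000000042b8000100200000000001820009000052090
theorem cu_l0_ok : (ptsOK 9 [] && (wordsIn [0, 2, 4, 6, 8, 10, 12] cu_l0.S && cu_l0.ok 9 m_ns m_ts [])) = true := by decide +kernel
theorem cu_l1_ok : (ptsOK 9 [7] && (wordsIn [0, 2, 4, 6, 8, 10, 12] cu_l1.S && cu_l1.ok 9 m_ns m_ts [7])) = true := by decide +kernel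
theorem cu_l2_ok : (ptsOK 9 [0, 7] && (wordsIn [0, 2, 4, 6, 8, 10, 12] cu_l2.S && cu_l2.ok 9 m_ns m_ts [0, 7])) = true := by decide +kernel
theorem cu_l3_ok : cu_l3.okT 9 m_ts [0, 2, 4, 6, 8, 10, 12] [163, 0, 7] (.cons [0] (.cons [0] (.cons [2] .nil (.cons [3] (.cons [1] .nil (.cons [3] (.cons [0] .nil .nil) .nil)) .nil)) (.cons [2] (.cons [0] .nil (.cons [1] (.cons [3] .nil .nil) .nil)) (.cons [3] (.cons [0] (.cons [0] .nil (.cons [2] .nil (.cons [3] (.cons [3] .nil .nil) .nil))) (.cons [1] (.cons [2] .nil .nil) .nil)) .nil))) (.cons [1] (.cons [2] (.cons [0] (.cons [2] .nil .nil) (.cons [2] .nil .nil)) (.cons [3] (.cons [0] (.cons [0] (.cons [2] .nil .nil) .nil) (.cons [1] (.cons [2] .nil (.cons [3] (.cons [0] .nil .nil) .nil)) (.cons [3] .nil .nil))) .nil)) (.cons [2] (.cons [0] (.cons [0] (.cons [3] .nil .nil) (.cons [2] (.cons [1] .nil .nil) (.cons [3] .nil .nil))) (.cons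 [1] (.cons [2] (.cons [0] .nil (.cons [2] .nil .nil)) (.cons [3] (.cons [1] (.cons [3] .nil .nil) .nil) .nil)) (.cons [2] (.cons [1] (.cons [1] .nil .nil) .nil) .nil))) (.cons [3] (.cons [0] (.cons [2] .nil .nil) (.cons [3] (.cons [1] .nil .nil) .nil)) .nil)))) = true := by decide +kernel
theorem cu_l4_ok : cu_l4.okT 9 m_ts [0, 2, 4, 6, 8, 10, 12] [28, 163, 0, 7] (.cons [0] (.cons [2] .nil (.cons [3] (.cons [0] .nil (.cons [4] .nil .nil)) (.cons [5] .nil .nil))) (.cons [1] (.cons [4] (.cons [2] .nil (.cons [3] .nil .nil)) (.cons [5] (.cons [0] .nil .nil) .nil)) (.cons [3] (.cons [0] .nil (.cons [1] (.cons [4] .nil (.cons [5] .nil .nil)) (.cons [4] (.cons [0] .nil (.cons [2] .nil (.cons [3] .nil .nil))) (.cons [5] (.cons [0] .nil .nil) .nil)))) (.cons [4] (.cons [0] (.cons [3] .nil (.cons [2] .nil .nil)) (.cons [2] .nil (.cons [3] (.cons [4] .nil .nil) .nil))) (.cons [5] (.cons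 [0] .nil (.cons [1] (.cons [2] .nil .nil) (.cons [3] .nil .nil))) .nil))))) = true := by decide +kernel
theorem cu_l5_ok : cu_l5.okT 9 m_ts [0, 2, 4, 6, 8, 10, 12] [88, 28, 163, 0, 7] (.cons [0] (.cons [2] (.cons [0] .nil .nil) .nil) (.cons [1] (.cons [1] (.cons [2] .nil .nil) .nil) (.cons [2] (.cons [0] (.cons [2] .nil .nil) .nil) .nil))) = true := by decide +kernel
theorem cu_l6_ok : cu_l6.okT 9 m_ts [0, 2, 4, 6, 8, 10, 12] [182, 88, 28, 163, 0, 7] (.cons [0] .nil .nil) = true := by decide +kernel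
theorem cu_aux : cu_S.auxB [0, 2, 4, 6, 8, 10, 12] cu_ls [] (0 :: cu_lk) = true := by decide +kernel
theorem cu_cov : Nat.beq (Nat.land cu_l0.O (Srch.cover m_ns (invW cu_S.u') cu_R0 10)) cu_l0.O = true := by decide +kernel
theorem cu_r0 : cu_S.run (.cons [] (.cons [] (.cons [] (.cons [] (.cons [] (.cons [] (.cons [] (.leaf 2000) .nil) .nil) .nil) .nil) .nil) .nil) (.cons [12] (.cons [3, 0, 6, 10] .nil .nil) (.cons [0, 12] (.cons [0, 3, 10] (.cons [2, 0, 8] (.cons [1, 2, 0] (.cons [4, 1, 3] .nil .nil) .nil) .nil) .nil) (.cons [2, 12] (.cons [10, 4, 10] (.cons [2, 8] .nil .nil) .nil) (.cons [3, 12] (.cons [10, 0, 6, 8, 10] .nil .nil) (.cons [4, 12] (.cons [10, 0, 6, 10] .nil .nil) (.cons [6, 12] (.cons [0, 6, 10] .nil .nil) (.cons [0, 2, 12] (.cons [6, 10, 8, 4, 10] (.cons [0, 2, 6] (.cons [0, 0, 3, 1] (.cons [5, 0] (.cons [2, 1, 1] (.cons [0] (.leaf 0) .nil) .nil) .nil) .nil)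 .nil) .nil) (.cons [4, 2, 12] (.cons [2, 6, 10, 4, 8, 10] .nil .nil) (.cons [6, 2, 12] (.cons [4, 6, 10] (.cons [6, 8, 6] .nil .nil) .nil) (.cons [12, 2, 12] (.cons [3, 10, 0, 6, 0, 10] .nil .nil) (.cons [0, 8, 12] .nil (.cons [10, 8, 12] (.cons [10, 6, 0, 6, 10] (.cons [2, 4, 8] .nil .nil) .nil) (.cons [12, 8, 12] (.cons [10, 0, 6, 10] (.cons [0, 2, 8] .nil .nil) .nil) (.cons [2, 4, 12] (.cons [0, 6, 10, 6, 10] .nil .nil) (.cons [6, 4, 12] (.cons [0, 10, 0, 10] (.cons [3, 8, 3] .nil .nil) .nil) (.cons [10, 4, 12] (.cons [8, 0, 6, 0, 10] (.cons [0, 8] .nil .nil) .nil) (.cons [2, 0, 12] (.cons [4, 6, 10, 0, 8, 10] (.cons [3, 8, 6, 0] .nil .nil) .nil) (.cons [8, 0, 12] (.cons [2, 8, 4, 10] .nil .nil) (.cons [8, 6, 12] (.cons [3, 10, 0, 4, 10] (.cons [4, 8, 6] (.cons [3, 3, 0, 3, 0] (.cons [0, 4] .nil .nil) .nil) .nil) .nil) (.cons [10, 4, 2, 12] (.cons [0, 8, 2, 0, 10] .nil .nil)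 (.cons [6, 12, 0, 12] (.cons [8, 10, 8, 10] .nil .nil) (.cons [10, 0, 8, 12] (.cons [10, 2, 8, 10] (.cons [4, 3, 6] .nil .nil) .nil) (.cons [2, 12, 6, 12] (.cons [10, 2, 6, 10] (.cons [3, 8, 4, 6] .nil .nil) .nil) (.cons [12, 6, 4, 12] (.cons [8, 4, 10] (.cons [2, 6, 0, 6] .nil .nil) .nil) (.cons [10, 0, 12, 6, 12] (.cons [8, 2, 10, 6, 10] (.cons [2, 8, 4, 8] .nil .nil) .nil) .nil)))))))))))))))))))))))))) (⟨cu_l0.b, cu_l0.S, [], cu_R0, 0⟩ :: cu_tl) (0 :: cu_lk) Pd.nil 0 = true := by decide +kernel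
theorem cu_sound {G : Type*} [Group G] {φ : G →* Equiv.Perm ℕ} {γ : ℕ → G}
    (M : Model φ γ 9 m_ns m_ts) : ChainSound φ (gp γ [0, 2, 4, 6, 8, 10, 12]) 9 [] cu_ls :=
  ⟨Level.ok_sound' M cu_l0_ok,
   Level.ok_sound' M cu_l1_ok,
   Level.ok_sound' M cu_l2_ok,
   Level.okT_sound M cu_l3_ok,
   Level.okT_sound M cu_l4_ok,
   Level.okT_sound M cu_l5_ok,
   Level.okT_sound M cu_l6_ok, trivial⟩
theorem cu_cent {G : Type*} [Group G] {φ : G →* Equiv.Perm ℕ} {γ : ℕ → G}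
    (C : Cert φ γ 9 m_ns m_ts [0, 2, 4, 6, 8, 10, 12] c_ls) : Cent γ cu_S.u cu_S.Cl 10 :=
  have X := (C.rechain (cu_sound C.M) (by decide +kernel)).exact
  have A := Srch.auxB_sound (S := cu_S) C.M (K := ⊤) le_top rfl cu_aux
  have F := fun {tr : Tr} {R : ℕ} => Srch.found_of_run (S := cu_S) C.M C.base (by decide +kernel) X A (tr := tr) (R := R)
  Cent.of_found (S := cu_S) C.M X rfl (F cu_r0) cu_cov

end Cfsg.Agent.Co3C
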