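import Cfsg.Agent.Co3C.OutX
import Cfsg.Agent.Co3C.OutU
import Cfsg.Agent.Co3C.OutG
import Cfsg.Agent.CGT.Out2

set_option autoImplicit false
set_option Elab.async false
set_option maxRecDepth 100000
set_option linter.all false

namespace Cfsg.Agent.Co3C
open Cfsg.Agent.CGT

noncomputable def od : OutD := ⟨9, m_ts, (chainBase [] c_ls), [10, 6, 10, 4, 10, 6, 4, 8, 6, 2, 2, 8, 12, 0, 6, 10, 4, 10, 6, 10], [12, 2, 8, 12, 0, 10, 2, 8, 4, 6, 2, 6, 2, 0, 4, 3], [2, 12, 4, 12, 4, 10, 8, 4, 6, 8, 4, 0, 3, 4, 3, 0, 2], [12, 2, 8, 12, 0, 10, 2, 8, 4, 6, 2, 6, 2, 0, 4, 3], 23, 2, 1, 1, 10, [1, 5], [[2, 12, 4, 12, 4, 10, 8, 4, 6, 8, 4, 0, 3, 4, 3, 0, 2]], [[1, 5, 2, 1, 4, 1, 5, 2, 1, 4, 1, 5, 2, 1, 4, 1, 5, 2, 1, 4, 1, 5, 2, 1, 4, 1, 5, 2, 1, 4], [0, 2, 4, 0, 2, 4, 0, 2, 4, 0, 2, 4, 0, 2, 4, 0, 2, 4, 0, 2, 4, 0, 2, 4, 0, 2,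 4, 0, 2, 4, 0, 2, 4], [0, 5, 0, 5, 0, 5, 0, 5, 0, 5, 0, 5, 0, 5, 0, 5, 0, 5, 0, 5, 0, 5, 0, 5, 0, 5, 0, 5]], [[[10, 6, 10, 4, 10, 6, 4, 8, 6, 2, 2, 8, 12, 0, 6, 10, 4, 10, 6, 10], [12, 2, 8, 12, 0, 10, 2, 8, 4, 6, 2, 6, 2, 0, 4, 3], [2, 12, 4, 12, 4, 10, 8, 4, 6, 8, 4, 0, 3, 4, 3, 0, 2]]]⟩
theorem od_b : od.basic 495766656000 7 = true := by decide +kernel
theorem od_c : conjB 9 m_ts (chainBase [] c_ls) [10, 8, 3, 0, 10, 3] od.u cu_S.u od.Cl cu_S.Cl = true := by decide +kernel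
theorem od_k1 : od.cands 1 ([] :: od.Cl) [[0, 1, 1, 1, 1, 1, 1, 1, 3, 1, 1], [1, 1, 1, 1, 1, 1, 1, 1, 1, 1, 1]] = true := by decide +kernel
theorem od_k5 : od.cands 5 ([] :: od.Cl) [[1, 1, 1, 3, 1, 5, 1, 1, 1, 1, 1], [1, 1, 1, 1, 1, 1, 1, 1, 1, 1, 1]] = true := by decide +kernel
theorem out_card {G : Type*} [Group G] {φ : G →* Equiv.Perm ℕ} {γ : ℕ → G} (C : Cert φ γ 9 m_ns m_ts [0, 2, 4, 6, 8, 10, 12] c_ls)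
    (hN : Nat.card G = 495766656000) : Nat.card (Cfsg.Out G) = 1 :=
  haveI := C.fin
  OutD.out_one (D := od) C.M C.base hN (by norm_num [od]) od_b (cx_cent C) ((cu_cent C).conj C.M C.base od_c)
    (by
    intro k hk
    simp only [od, List.mem_cons, List.not_mem_nil, or_false] at hk
    rcases hk with rfl | rfl
    exacts [OutD.cands_sound C.M C.base od_b od_k1, OutD.cands_sound C.M C.base od_b od_k5]) (g_top C) rfl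
theorem out_eq : Nat.card (Cfsg.Out Cfsg.Spor.Co3) = 1 := by
  obtain ⟨φ, C⟩ := cert
  exact out_card C card_eq

end Cfsg.Agent.Co3C
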