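import Cfsg.Agent.Co3C.Cert
import Cfsg.Agent.Leech.Aut

set_option autoImplicit false
set_option Elab.async false
set_option maxRecDepth 100000
set_option linter.all false

namespace Cfsg.Agent.Co3C
open Cfsg.Agent.CGT

noncomputable def cx_l0 : Level := ⟨7, [[0], [2], [4], [6], [8], [10], [12]], [6, 0, 1, 2, 4, 3, 6, 1, 0, 5, 3, 6, 4], 0xfffffffffffffffffffffffffffffffffffffffffffffffffffffffffffffffffffff, 276⟩
noncomputable def cx_l1 : Level := ⟨0, [[0], [2], [4], [6], [8], [10]], [5, 0, 1, 2, 3, 1, 5, 0, 4, 1, 5, 2, 3, 5], 0xfffffffffffffffffffffffffffffffffffffffffffffffffffffffffffffffffff7f, 275⟩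
noncomputable def cx_l2 : Level := ⟨204, [[0], [2], [4], [6], [8]], [0, 1, 2, 4, 0, 3, 1, 2, 4, 0, 1], 0xb9f47b7eedf033a5fd4d717e46d988ba0b4a0182f51f7e7ff4bbfe106bd276adedf6e, 162⟩
noncomputable def cx_l3 : Level := ⟨95, [[0, 2, 0, 2, 8, 6, 3, 4, 6, 4, 2], [6, 0, 2, 6, 0, 8, 3, 4, 3, 4, 2], [3, 4, 3, 0, 8, 6, 0, 2, 4, 3, 0]], [0, 1, 2, 0, 2, 0, 1, 2, 0, 1], 0x80501b72e95013807005517842d188920348018235136a6f740b76106a82748dc494e, 105⟩
noncomputable def cx_l4 : Level := ⟨190, [[4, 6, 4, 2, 8, 6, 0, 4, 6, 2], [8, 2, 8, 3, 8, 4, 6, 2, 0, 4, 0]], [], 0x40280000004000000228e00080420004010c01800600000004001059409001002000, 32⟩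
noncomputable def cx_l5 : Level := ⟨218, [[6, 2, 8, 2, 6, 4], [8, 4, 8, 3, 8, 2, 6, 0, 4, 3, 4, 0]], [], 0x4000000000000000000000240100000080000000000000004000000, 6⟩
noncomputable def cx_l6 : Level := ⟨143, [[6, 4, 8, 2, 2, 8, 6, 3, 6, 0, 4, 0, 4]], [], 0x200000000000000000000800000000000000000000000000000000000, 2⟩
noncomputable def cx_ls : List Level := [cx_l0, cx_l1, cx_l2, cx_l3, cx_l4, cx_l5, cx_l6]
noncomputable def cx_S : Srch := ⟨9, m_ts, (chainBase [] c_ls), [10, 6, 10, 4, 10, 6, 4, 8, 6, 2, 2, 8, 12, 0, 6, 10, 4, 10, 6, 10], [10, 6, 10, 4, 10, 6, 4, 8, 6, 2, 2, 8, 12, 0, 6, 10, 4, 10, 6, 10], []⟩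
noncomputable def cx_lk : List ℕ := [8, 1, 205, 96, 191, 219]
noncomputable def cx_tl : List Level := [cx_l1, cx_l2, cx_l3, cx_l4, cx_l5, cx_l6]
noncomputable def cx_R0 : ℕ := 0x808000000000000820000000000004001000000000000000000820001000010090
theorem cx_l0_ok : (ptsOK 9 [] && (wordsIn [0, 2, 4, 6, 8, 10, 12] cx_l0.S && cx_l0.ok 9 m_ns m_ts [])) = true := by decide +kernel
theorem cx_l1_ok : (ptsOK 9 [7] && (wordsIn [0, 2, 4, 6, 8, 10, 12] cx_l1.S && cx_l1.ok 9 m_ns m_ts [7])) = true := by decide +kernel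
theorem cx_l2_ok : (ptsOK 9 [0, 7] && (wordsIn [0, 2, 4, 6, 8, 10, 12] cx_l2.S && cx_l2.ok 9 m_ns m_ts [0, 7])) = true := by decide +kernel
theorem cx_l3_ok : (ptsOK 9 [204, 0, 7] && (wordsIn [0, 2, 4, 6, 8, 10, 12] cx_l3.S && cx_l3.ok 9 m_ns m_ts [204, 0, 7])) = true := by decide +kernel
theorem cx_l4_ok : cx_l4.okT 9 m_ts [0, 2, 4, 6, 8, 10, 12] [95, 204, 0, 7] (.cons [0] (.cons [0] (.cons [0] (.cons [2] .nil .nil) .nil) (.cons [2] (.cons [0] (.cons [2] .nil .nil) (.cons [1] (.cons [1] .nil .nil) .nil)) .nil)) (.cons [1] (.cons [1] (.cons [1] (.cons [1] (.cons [2] .nil .nil) (.cons [2] .nil .nil)) .nil) (.cons [2] (.cons [0] (.cons [0] .nil .nil) (.cons [1] (.cons [2] .nil .nil) .nil)) .nil)) (.cons [2] (.cons [0] (.cons [0] (.cons [0] .nil .nil) (.cons [2] (.cons [1] .nil .nil) .nil)) (.cons [1] (.cons [1] (.cons [1] .nil .nil) (.cons [2] (.cons [0] .nil .nil) .nil)) .nil))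 .nil))) = true := by decide +kernel
theorem cx_l5_ok : cx_l5.okT 9 m_ts [0, 2, 4, 6, 8, 10, 12] [190, 95, 204, 0, 7] (.cons [0] (.cons [2] .nil (.cons [3] .nil .nil)) (.cons [2] .nil (.cons [3] .nil .nil))) = true := by decide +kernel
theorem cx_l6_ok : cx_l6.okT 9 m_ts [0, 2, 4, 6, 8, 10, 12] [218, 190, 95, 204, 0, 7] (.cons [0] .nil .nil) = true := by decide +kernel
theorem cx_aux : cx_S.auxB [0, 2, 4, 6, 8, 10, 12] cx_ls [] (0 :: cx_lk) = true := by decide +kernel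
theorem cx_cov : Nat.beq (Nat.land cx_l0.O (Srch.cover m_ns (invW cx_S.u') cx_R0 22)) cx_l0.O = true := by decide +kernel
theorem cx_r0 : cx_S.run (.cons [] (.cons [] (.cons [] (.cons [] (.cons [] (.cons [] (.cons [] (.leaf 2000) .nil) .nil) .nil) .nil) .nil) .nil) (.cons [12] (.cons [3, 6, 4, 10] (.cons [6, 2, 4, 8] .nil .nil) .nil) (.cons [0, 12] (.cons [4, 0, 4, 10] (.cons [2, 0, 2] .nil .nil) .nil) (.cons [2, 12] (.cons [3, 6, 0, 10] .nil .nil) (.cons [4, 12] (.cons [0, 10, 0, 10] (.cons [2, 0, 8, 2] (.cons [0, 2] .nil .nil) .nil) .nil) (.cons [0, 2, 12] (.cons [4, 6, 10, 0, 3, 10] .nil .nil) (.cons [2, 2, 12] (.cons [10, 4, 10, 0, 6, 10] (.cons [2, 4, 0, 8] (.cons [2, 0, 5, 0] (.cons [2, 0, 2, 0] .nil .nil) .nil) .nil) .nil) (.cons [4, 2, 12] (.cons [0, 3, 10] .nil .nil) (.cons [8, 2, 12] (.cons [8, 2, 6, 8, 10] .nil .nil) (.cons [0, 8, 12] (.cons [2, 10, 0, 10] .nil .nil)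 (.cons [10, 8, 12] (.cons [6, 0, 10, 6, 10] .nil .nil) (.cons [10, 4, 12] (.cons [10, 0, 3, 8, 10] (.cons [8, 4, 3, 0, 8] (.cons [0, 0, 2, 5] .nil .nil) .nil) .nil) .nil)))))))))))) (⟨cx_l0.b, cx_l0.S, [], cx_R0, 0⟩ :: cx_tl) (0 :: cx_lk) Pd.nil 0 = true := by decide +kernel
theorem cx_sound {G : Type*} [Group G] {φ : G →* Equiv.Perm ℕ} {γ : ℕ → G}
    (M : Model φ γ 9 m_ns m_ts) : ChainSound φ (gp γ [0, 2, 4, 6, 8, 10, 12]) 9 [] cx_ls :=
  ⟨Level.ok_sound' M cx_l0_ok,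
   Level.ok_sound' M cx_l1_ok,
   Level.ok_sound' M cx_l2_ok,
   Level.ok_sound' M cx_l3_ok,
   Level.okT_sound M cx_l4_ok,
   Level.okT_sound M cx_l5_ok,
   Level.okT_sound M cx_l6_ok, trivial⟩
theorem cx_cent {G : Type*} [Group G] {φ : G →* Equiv.Perm ℕ} {γ : ℕ → G}
    (C : Cert φ γ 9 m_ns m_ts [0, 2, 4, 6, 8, 10, 12] c_ls) : Cent γ cx_S.u cx_S.Cl 22 :=
  have X := (C.rechain (cx_sound C.M) (by decide +kernel)).exact
  have A := Srch.auxB_sound (S := cx_S) C.M (K := ⊤) le_top rfl cx_aux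
  have F := fun {tr : Tr} {R : ℕ} => Srch.found_of_run (S := cx_S) C.M C.base (by decide +kernel) X A (tr := tr) (R := R)
  Cent.of_found (S := cx_S) C.M X rfl (F cx_r0) cx_cov

end Cfsg.Agent.Co3C
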